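import Mathlib
import Groth.Prelude.Def_ProEtW


/-! helper7: etale retractions: an etale algebra with a prime over a maximal ideal maps to the localization -/

set_option linter.style.haveILetI false
set_option linter.unusedVariables false
set_option linter.unusedSectionVars false

open Polynomial

namespace Groth.Agent.Helper7.EtRetr

universe u

/-- A two-element family of types. -/
def Two (E F : Type u) : Bool → Type u
  | true => E
  | false => F

section TwoInst

variable {A : Type u} [CommRing A] (E F : Type u) [CommRing E] [CommRing F]
  [Algebra A E] [Algebra A F]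

instance instCommRingTwo : ∀ b, CommRing (Two E F b)
  | true => inferInstanceAs (CommRing E)
  | false => inferInstanceAs (CommRing F)

instance instAlgebraTwo : ∀ b, Algebra A (Two E F b)
  | true => inferInstanceAs (Algebra A E)
  | false => inferInstanceAs (Algebra A F)

instance instEtaleTwo [Algebra.Etale A E] [Algebra.Etale A F] : ∀ b, Algebra.Etale A (Two E F b)
  | true => inferInstanceAs (Algebra.Etale A E)
  | false => inferInstanceAs (Algebra.Etale A F)

/-- The product, as a Pi type. -/
abbrev Pr : Type u := ∀ b, Two E F b

/-- Inclusion of the first factor (non-unital). -/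
def inl (x : E) : Pr E F := fun b => match b with
  | true => x
  | false => (0 : F)

/-- Inclusion of the second factor (non-unital). -/
def inr (y : F) : Pr E F := fun b => match b with
  | true => (0 : E)
  | false => y

variable {E F}

theorem inl_mul (x x' : E) : inl E F (x * x') = inl E F x * inl E F x' := by
  funext b; cases b
  · exact (mul_zero (0 : F)).symm
  · rfl

theorem inl_add (x x' : E) : inl E F (x + x') = inl E F x + inl E F x' := by
  funext b; cases b
  · exact (add_zero (0 : F)).symm
  · rfl

theorem inl_zero : inl E F (0 : E) = 0 := by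
  funext b; cases b <;> rfl

theorem inr_mul (y y' : F) : inr E F (y * y') = inr E F y * inr E F y' := by
  funext b; cases b
  · rfl
  · exact (mul_zero (0 : E)).symm

theorem inl_one_add_inr_one : inl E F 1 + inr E F 1 = 1 := by
  funext b; cases b
  · exact zero_add (1 : F)
  · exact add_zero (1 : E)

theorem inl_algebraMap (a : A) (x : E) : inl E F (a • x) = a • inl E F x := by
  funext b; cases b
  · exact (smul_zero (A := F) a).symm
  · rfl

theorem inr_smul (a : A) (y : F) : inr E F (a • y) = a • inr E F y := by
  funext b; cases b
  · rfl
  · exact (smul_zero (A := E) a).symm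

end TwoInst

section Core

variable {A : Type u} [CommRing A]

/-- If the retraction sends the first idempotent outside `m`... the key lemma: an étale algebra with
a prime over the maximal ideal `m` maps to the localization at `m`. -/
theorem exists_algHom_atPrime (h : ProEtW.HasEtaleRetractions A) (m : Ideal A) [m.IsMaximal]
    (E : Type u) [CommRing E] [Algebra A E] [Algebra.Etale A E]
    (q : Ideal E) [q.IsPrime] (hq : q.comap (algebraMap A E) = m) :
    Nonempty (E →ₐ[A] Localization.AtPrime m) := by
  classical
  -- the image of `Spec E` is open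
  have hopen : IsOpen (Set.range (PrimeSpectrum.comap (algebraMap A E))) :=
    (PrimeSpectrum.isOpenMap_comap_of_hasGoingDown_of_finitePresentation (R := A) (S := E)).isOpen_range
  set U := Set.range (PrimeSpectrum.comap (algebraMap A E)) with hU
  have hmU : (⟨m, inferInstance⟩ : PrimeSpectrum A) ∈ U :=
    ⟨⟨q, inferInstance⟩, PrimeSpectrum.ext hq⟩
  have hclosed : IsClosed Uᶜ := hopen.isClosed_compl
  set J := PrimeSpectrum.vanishingIdeal Uᶜ with hJ
  have hzl : PrimeSpectrum.zeroLocus (J : Set A) = Uᶜ := by
    rw [hJ, PrimeSpectrum.zeroLocus_vanishingIdeal_eq_closure, hclosed.closure_eq]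
  have hJm : ¬ J ≤ m := by
    intro hle
    have : (⟨m, inferInstance⟩ : PrimeSpectrum A) ∈ PrimeSpectrum.zeroLocus (J : Set A) := by
      rw [PrimeSpectrum.mem_zeroLocus]
      exact hle
    rw [hzl] at this
    exact this hmU
  have hsup : J ⊔ m = ⊤ := by
    by_contra hne
    have h1 : m ≤ J ⊔ m := le_sup_right
    have h2 := (Ideal.IsMaximal.eq_of_le inferInstance hne h1)
    exact hJm (h2 ▸ le_sup_left)
  obtain ⟨j, hj, h₀, hh₀, hjh⟩ := Submodule.mem_sup.mp (hsup ▸ Submodule.mem_top : (1 : A) ∈ J ⊔ m)
  -- the faithfully flat étale algebra
  let F := Localization.Away h₀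
  haveI : Algebra.Etale A F := Algebra.Etale.of_isLocalizationAway h₀
  have hff : Module.FaithfullyFlat A (Pr E F) := by
    refine Module.FaithfullyFlat.of_comap_surjective fun n => ?_
    by_cases hn : n ∈ U
    · obtain ⟨q', hq'⟩ := hn
      refine ⟨PrimeSpectrum.comap (Pi.evalRingHom (Two E F) true) q', ?_⟩
      rw [← hq']
      rfl
    · have hnz : n ∈ PrimeSpectrum.zeroLocus (J : Set A) := by rw [hzl]; exact hn
      have hjn : j ∈ n.asIdeal := (PrimeSpectrum.mem_zeroLocus _ _).mp hnz hj
      have hhn : h₀ ∉ n.asIdeal := by
        intro hh
        have : (1 : A) ∈ n.asIdeal := hjh ▸ Ideal.add_mem _ hjn hh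
        exact n.isPrime.ne_top ((Ideal.eq_top_iff_one _).mpr this)
      have hdisj : Disjoint (Submonoid.powers h₀ : Set A) (n.asIdeal : Set A) := by
        rw [Set.disjoint_left]
        rintro _ ⟨k, rfl⟩ hk
        exact hhn (n.isPrime.mem_of_pow_mem k hk)
      have hprime : (n.asIdeal.map (algebraMap A F)).IsPrime :=
        IsLocalization.isPrime_of_isPrime_disjoint (Submonoid.powers h₀) F _ n.isPrime hdisj
      have hcomap : (n.asIdeal.map (algebraMap A F)).comap (algebraMap A F) = n.asIdeal :=
        IsLocalization.under_map_of_isPrime_disjoint (Submonoid.powers h₀) F n.isPrime hdisj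
      refine ⟨PrimeSpectrum.comap (Pi.evalRingHom (Two E F) false) ⟨_, hprime⟩, ?_⟩
      apply PrimeSpectrum.ext
      exact hcomap
  obtain ⟨ρ⟩ := h (Pr E F) hff inferInstance
  -- the idempotent
  set ε := ρ (inl E F 1) with hε
  have hεid : ε * ε = ε := by
    rw [hε, ← map_mul, ← inl_mul, one_mul]
  have h1ε : 1 - ε ∈ m := by
    have e1 : 1 - ε = ρ (inr E F 1) := by
      rw [hε, ← map_one ρ, ← map_sub]
      congr 1
      rw [sub_eq_iff_eq_add, add_comm]
      exact inl_one_add_inr_one.symm
    have e2 : inr E F (1 : F) = h₀ • (inr E F (1 : F) * inr E F (IsLocalization.Away.invSelf h₀)) := by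
      rw [← inr_mul, one_mul, ← inr_smul]
      congr 1
      rw [Algebra.smul_def]
      exact (IsLocalization.Away.mul_invSelf h₀).symm
    rw [e1, e2, map_smul, smul_eq_mul]
    exact Ideal.mul_mem_right _ _ hh₀
  have hunit : algebraMap A (Localization.AtPrime m) ε = 1 := by
    have hu : IsUnit (algebraMap A (Localization.AtPrime m) ε) := by
      apply IsLocalization.map_units (Localization.AtPrime m) (⟨ε, ?_⟩ : m.primeCompl)
      intro hεm
      have : (1 : A) ∈ m := by
        have := Ideal.add_mem _ h1ε hεm
        rwa [sub_add_cancel] at this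
      exact (Ideal.IsMaximal.ne_top inferInstance) ((Ideal.eq_top_iff_one _).mpr this)
    have hid : algebraMap A (Localization.AtPrime m) ε * algebraMap A (Localization.AtPrime m) ε
        = algebraMap A (Localization.AtPrime m) ε := by
      rw [← map_mul, hεid]
    exact (hu.mul_left_inj).mp (by rw [hid, one_mul])
  refine ⟨{ toFun := fun x => algebraMap A (Localization.AtPrime m) (ρ (inl E F x))
            map_one' := hunit
            map_mul' := fun x y => by rw [inl_mul, map_mul, map_mul]
            map_zero' := by rw [inl_zero, map_zero, map_zero]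
            map_add' := fun x y => by rw [inl_add, map_add, map_add]
            commutes' := fun a => by
              show algebraMap A (Localization.AtPrime m) (ρ (inl E F (algebraMap A E a))) = _
              have ha : algebraMap A E a = a • (1 : E) := Algebra.algebraMap_eq_smul_one a
              rw [ha, inl_algebraMap, map_smul, smul_eq_mul, map_mul]
              show _ * algebraMap A (Localization.AtPrime m) ε = _
              rw [hunit, mul_one] }⟩

end Core

end Groth.Agent.Helper7.EtRetr
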