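import Mathlib
import Groth.Prelude.Def_ProEtW
import Groth.Agent.Lib.Helper7.EtRetr.Core


/-! helper7: rings with retractions of faithfully flat etale algebras have strictly henselian localizations at maximal ideals (S0675) -/

set_option linter.style.haveILetI false
set_option linter.unusedVariables false
set_option linter.unusedSectionVars false

open Polynomial

namespace Groth.Agent.Helper7.EtRetr

universe u

section Poly

variable {R : Type*} [CommRing R]

theorem derivative_scaleRoots_eval (p : R[X]) (s r : R) :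
    (scaleRoots p s).derivative.eval (s * r) = s ^ (p.natDegree - 1) * p.derivative.eval r := by
  rw [derivative_eval, derivative_eval]
  rw [Polynomial.sum_over_range' _ (by intro n; simp) (p.natDegree + 1)
      (by rw [natDegree_scaleRoots]; exact Nat.lt_succ_self _),
    Polynomial.sum_over_range' _ (by intro n; simp) (p.natDegree + 1) (Nat.lt_succ_self _),
    Finset.mul_sum]
  refine Finset.sum_congr rfl fun i hi => ?_
  rw [coeff_scaleRoots]
  rcases Nat.eq_zero_or_pos i with rfl | hpos
  · simp
  · have hi' : i ≤ p.natDegree := Nat.lt_succ_iff.mp (Finset.mem_range.mp hi)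
    have e : p.natDegree - 1 = (p.natDegree - i) + (i - 1) := by omega
    rw [e, pow_add, mul_pow]
    ring

end Poly

section Hens

variable {A : Type u} [CommRing A]

theorem exists_root_of_base (h : ProEtW.HasEtaleRetractions A) (m : Ideal A) [m.IsMaximal]
    (F₀ : A[X]) (hF : F₀.Monic) (α : A) (h1 : F₀.eval α ∈ m) (h2 : F₀.derivative.eval α ∉ m) :
    ∃ a : Localization.AtPrime m, (F₀.map (algebraMap A _)).IsRoot a ∧
      a - algebraMap A _ α ∈ IsLocalRing.maximalIdeal (Localization.AtPrime m) := by
  set G₀ := F₀ /ₘ (X - C α) with hG₀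
  have hdiv : F₀ = (X - C α) * G₀ + C (F₀.eval α) := by
    have := modByMonic_add_div F₀ (X - C α)
    rw [modByMonic_X_sub_C_eq_C_eval] at this
    rw [← hG₀] at this
    conv_lhs => rw [← this]
    ring
  have hG : G₀.eval α = F₀.derivative.eval α := by
    have hd : derivative F₀ = G₀ + (X - C α) * derivative G₀ := by
      conv_lhs => rw [hdiv]
      simp only [derivative_add, derivative_mul, derivative_sub, derivative_X, derivative_C,
        sub_zero, one_mul, add_zero]
    rw [hd]
    simp
  let P : StandardEtalePair A := ⟨F₀, hF, derivative F₀ * G₀, ⟨G₀, 0, 1, by ring⟩⟩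
  have hP : P.HasMap (Ideal.Quotient.mk m α) := by
    constructor
    · show aeval (Ideal.Quotient.mk m α) F₀ = 0
      rw [← Ideal.Quotient.algebraMap_eq, aeval_algebraMap_apply, Ideal.Quotient.algebraMap_eq]
      exact Ideal.Quotient.eq_zero_iff_mem.mpr (by simpa using h1)
    · show IsUnit (aeval (Ideal.Quotient.mk m α) (derivative F₀ * G₀))
      rw [← Ideal.Quotient.algebraMap_eq, aeval_algebraMap_apply, Ideal.Quotient.algebraMap_eq]
      have hne : aeval α (derivative F₀ * G₀) ∉ m := by
        simp only [map_mul, coe_aeval_eq_eval, hG]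
        intro hmem
        rcases (Ideal.IsMaximal.isPrime inferInstance).mem_or_mem hmem with h' | h'
        · exact h2 h'
        · exact h2 h'
      obtain ⟨y, i, hi, hyi⟩ := Ideal.IsMaximal.exists_inv (inferInstance : m.IsMaximal) hne
      refine IsUnit.of_mul_eq_one (Ideal.Quotient.mk m y) ?_
      rw [← map_mul, ← map_one (Ideal.Quotient.mk m), Ideal.Quotient.mk_eq_mk_iff_sub_mem]
      have : aeval α (derivative F₀ * G₀) * y - 1 = -i := by linear_combination hyi
      rw [this]
      exact Ideal.neg_mem_iff _ |>.mpr hi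
  let φ : P.Ring →ₐ[A] A ⧸ m := P.lift _ hP
  haveI : IsDomain (A ⧸ m) := Ideal.Quotient.isDomain m
  haveI hqp : (RingHom.ker φ.toRingHom).IsPrime := RingHom.ker_isPrime φ.toRingHom
  have hq : (RingHom.ker φ.toRingHom).comap (algebraMap A P.Ring) = m := by
    rw [RingHom.comap_ker]
    have : φ.toRingHom.comp (algebraMap A P.Ring) = algebraMap A (A ⧸ m) := φ.comp_algebraMap
    rw [this, Ideal.Quotient.algebraMap_eq, Ideal.mk_ker]
  obtain ⟨σ⟩ := exists_algHom_atPrime h m P.Ring (RingHom.ker φ.toRingHom) hq
  have hσ : P.HasMap (σ P.X) := P.hasMap_X.map σ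
  refine ⟨σ P.X, ?_, ?_⟩
  · show (F₀.map (algebraMap A _)).eval (σ P.X) = 0
    rw [eval_map_algebraMap]
    exact hσ.1
  · have hu : IsUnit (aeval (σ P.X) G₀) := by
      have := hσ.2
      change IsUnit (aeval (σ P.X) (derivative F₀ * G₀)) at this
      rw [map_mul] at this
      exact isUnit_of_mul_isUnit_right this
    have h0 : aeval (σ P.X) F₀ = 0 := hσ.1
    have h3 : (σ P.X - algebraMap A _ α) * aeval (σ P.X) G₀
        = - algebraMap A (Localization.AtPrime m) (F₀.eval α) := by
      have := congrArg (aeval (σ P.X)) hdiv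
      rw [h0] at this
      simp only [map_add, map_mul, map_sub, aeval_X, aeval_C] at this
      linear_combination -this
    obtain ⟨u, hu'⟩ := hu
    have h4 : σ P.X - algebraMap A _ α
        = - algebraMap A (Localization.AtPrime m) (F₀.eval α) * ↑u⁻¹ := by
      rw [← h3, ← hu', mul_assoc, Units.mul_inv, mul_one]
    rw [h4]
    refine Ideal.mul_mem_right _ _ (Ideal.neg_mem_iff _ |>.mpr ?_)
    exact (IsLocalization.AtPrime.to_map_mem_maximal_iff _ m _).mpr h1

end Hens

section Main

variable {A : Type u} [CommRing A]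

theorem henselianLocalRing_atPrime (h : ProEtW.HasEtaleRetractions A) (m : Ideal A)
    [m.IsMaximal] : HenselianLocalRing (Localization.AtPrime m) where
  is_henselian F hF a₀ h₁ h₂ := by
    classical
    let Am := Localization.AtPrime m
    -- a common denominator
    obtain ⟨⟨t, ht⟩, htint⟩ := IsLocalization.exist_integer_multiples_of_finset m.primeCompl
      (insert a₀ ((Finset.range (F.natDegree + 1)).image F.coeff))
    have hta : ∃ α : A, algebraMap A Am α = algebraMap A Am t * a₀ := by
      obtain ⟨α, hα⟩ := htint a₀ (Finset.mem_insert_self _ _)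
      exact ⟨α, by rw [hα, Algebra.smul_def]⟩
    have htc : ∀ i, ∃ c : A, algebraMap A Am c = algebraMap A Am t * F.coeff i := by
      intro i
      by_cases hi : i < F.natDegree + 1
      · obtain ⟨c, hc⟩ := htint (F.coeff i) (Finset.mem_insert_of_mem
          (Finset.mem_image_of_mem _ (Finset.mem_range.mpr hi)))
        exact ⟨c, by rw [hc, Algebra.smul_def]⟩
      · refine ⟨0, ?_⟩
        rw [coeff_eq_zero_of_natDegree_lt (by omega), mul_zero, map_zero]
    obtain ⟨α, hα⟩ := hta
    have htu : IsUnit (algebraMap A Am t) :=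
      IsLocalization.map_units Am (⟨t, ht⟩ : m.primeCompl)
    set τ := algebraMap A Am t with hτ
    -- the scaled polynomial lifts to `A`
    have hlift : scaleRoots F τ ∈ lifts (algebraMap A Am) := by
      rw [lifts_iff_coeff_lifts]
      intro i
      rw [coeff_scaleRoots]
      rcases lt_trichotomy i F.natDegree with hi | hi | hi
      · obtain ⟨c, hc⟩ := htc i
        refine ⟨c * t ^ (F.natDegree - i - 1), ?_⟩
        have e : τ ^ (F.natDegree - i) = τ ^ (F.natDegree - i - 1) * τ := by
          rw [← pow_succ]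
          congr 1
          omega
        rw [map_mul, map_pow, hc, e]
        ring
      · refine ⟨1, ?_⟩
        rw [hi, Nat.sub_self, pow_zero, mul_one, map_one]
        exact hF.coeff_natDegree.symm
      · refine ⟨0, ?_⟩
        rw [coeff_eq_zero_of_natDegree_lt hi, zero_mul, map_zero]
    obtain ⟨F₀, hF₀map, -, hF₀⟩ := lifts_and_natDegree_eq_and_monic hlift
      ((monic_scaleRoots_iff τ).mpr hF)
    -- hypotheses for the base statement
    have e1 : algebraMap A Am (F₀.eval α) = τ ^ F.natDegree * F.eval a₀ := by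
      rw [← eval₂_at_apply, ← eval_map, hF₀map, hα, scaleRoots_eval_mul]
    have e2 : algebraMap A Am (F₀.derivative.eval α)
        = τ ^ (F.natDegree - 1) * F.derivative.eval a₀ := by
      rw [← eval₂_at_apply, ← eval_map, ← derivative_map, hF₀map, hα, derivative_scaleRoots_eval]
    have h1' : F₀.eval α ∈ m := by
      rw [← IsLocalization.AtPrime.to_map_mem_maximal_iff Am m, e1]
      exact Ideal.mul_mem_left _ _ h₁
    have h2' : F₀.derivative.eval α ∉ m := by
      rw [← IsLocalization.AtPrime.to_map_mem_maximal_iff Am m, e2]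
      intro hmem
      have hu : IsUnit (τ ^ (F.natDegree - 1) * F.derivative.eval a₀) :=
        (htu.pow _).mul h₂
      exact (IsLocalRing.mem_maximalIdeal _).mp hmem hu
    obtain ⟨b, hb, hbα⟩ := exists_root_of_base h m F₀ hF₀ α h1' h2'
    obtain ⟨u, hu⟩ := htu
    refine ⟨↑u⁻¹ * b, ?_, ?_⟩
    · have hb' : (scaleRoots F τ).eval (τ * (↑u⁻¹ * b)) = 0 := by
        rw [← hu, ← mul_assoc, Units.mul_inv, one_mul, hu, ← hF₀map]
        exact hb
      rw [scaleRoots_eval_mul] at hb'
      have hunit : IsUnit (τ ^ F.natDegree) := (hu ▸ u.isUnit).pow _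
      exact (hunit.mul_right_eq_zero).mp hb'
    · have e3 : ↑u⁻¹ * b - a₀ = ↑u⁻¹ * (b - algebraMap A Am α) := by
        rw [hα, ← hu, mul_sub, ← mul_assoc, Units.inv_mul, one_mul]
      rw [e3]
      exact Ideal.mul_mem_left _ _ hbα

end Main

section SepClosed

variable {A : Type u} [CommRing A]

theorem isSepClosed_residueField (h : ProEtW.HasEtaleRetractions A) (m : Ideal A)
    [m.IsMaximal] : IsSepClosed (IsLocalRing.ResidueField (Localization.AtPrime m)) := by
  classical
  apply IsSepClosed.of_exists_root
  intro p hp hirr hsep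
  have hlift : p ∈ lifts (algebraMap A m.ResidueField) := by
    rw [lifts_iff_coeff_lifts]
    intro i
    exact m.algebraMap_residueField_surjective (p.coeff i)
  obtain ⟨F₀, hF₀map, -, hF₀⟩ := lifts_and_natDegree_eq_and_monic hlift hp
  let P : StandardEtalePair A := ⟨F₀, hF₀, derivative F₀, ⟨1, 0, 1, by ring⟩⟩
  haveI : Fact (Irreducible p) := ⟨hirr⟩
  let L := AdjoinRoot p
  have hev : ∀ G : A[X], aeval (AdjoinRoot.root p) G
      = aeval (AdjoinRoot.root p) (G.map (algebraMap A m.ResidueField)) := by
    intro G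
    rw [aeval_map_algebraMap]
  have hP : P.HasMap (AdjoinRoot.root p : L) := by
    constructor
    · show aeval (AdjoinRoot.root p) F₀ = 0
      rw [hev, hF₀map, AdjoinRoot.aeval_eq, AdjoinRoot.mk_self]
    · show IsUnit (aeval (AdjoinRoot.root p) (derivative F₀))
      rw [hev, ← derivative_map, hF₀map]
      obtain ⟨a, b, hab⟩ := hsep
      have := congrArg (aeval (AdjoinRoot.root p)) hab
      simp only [map_add, map_mul, map_one] at this
      rw [AdjoinRoot.aeval_eq p, AdjoinRoot.mk_self, mul_zero, zero_add] at this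
      exact IsUnit.of_mul_eq_one _ (by rw [mul_comm]; exact this)
  let φ : P.Ring →ₐ[A] L := P.lift _ hP
  haveI hqp : (RingHom.ker φ.toRingHom).IsPrime := RingHom.ker_isPrime φ.toRingHom
  have hq : (RingHom.ker φ.toRingHom).comap (algebraMap A P.Ring) = m := by
    rw [RingHom.comap_ker]
    have h1 : φ.toRingHom.comp (algebraMap A P.Ring) = algebraMap A L := φ.comp_algebraMap
    rw [h1, IsScalarTower.algebraMap_eq A m.ResidueField L, ← RingHom.comap_ker,
      (RingHom.injective_iff_ker_eq_bot _).mp (algebraMap m.ResidueField L).injective,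
      ← RingHom.ker_eq_comap_bot, Ideal.ker_algebraMap_residueField]
  obtain ⟨σ⟩ := exists_algHom_atPrime h m P.Ring (RingHom.ker φ.toRingHom) hq
  have hσ : P.HasMap (σ P.X) := P.hasMap_X.map σ
  refine ⟨IsLocalRing.residue _ (σ P.X), ?_⟩
  have h0 : aeval (σ P.X) F₀ = 0 := hσ.1
  rw [← hF₀map, eval_map, IsScalarTower.algebraMap_eq A (Localization.AtPrime m) m.ResidueField]
  show eval₂ ((IsLocalRing.residue _).comp (algebraMap A (Localization.AtPrime m)))
    (IsLocalRing.residue _ (σ P.X)) F₀ = 0
  rw [← hom_eval₂, ← aeval_def, h0, map_zero]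

theorem main (A : Type u) [CommRing A]
    (h : ProEtW.HasEtaleRetractions A) (m : Ideal A) [m.IsMaximal] :
    EtCoh.IsStrictlyHenselianLocalRing (Localization.AtPrime m) :=
  ⟨henselianLocalRing_atPrime h m, isSepClosed_residueField h m⟩

end SepClosed

end Groth.Agent.Helper7.EtRetr
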