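import Mathlib
import Groth.Prelude.Def_ProEtW
import Groth.Agent.Lib.Helper7.EtRetr.Core
import Groth.Agent.Lib.Helper7.CAlg.EtaleLift


/-! helper7: partial retractions from etale covers of a closed set; etale retractions pass to quotients (S0676) -/

set_option linter.style.haveILetI false
set_option linter.unusedVariables false
set_option linter.unusedSectionVars false

open Polynomial

namespace Groth.Agent.Helper7.EtRetr

universe u

section Cover

variable {A : Type u} [CommRing A]

/-- If the image of `Spec E` contains `V(K)`, then there is an additive, multiplicative,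
`A`-homogeneous map `E → A` sending `1` to an element congruent to `1` modulo `K`. -/
theorem exists_partial_retraction (h : ProEtW.HasEtaleRetractions A) (K : Ideal A)
    (E : Type u) [CommRing E] [Algebra A E] [Algebra.Etale A E]
    (hK : ∀ n : PrimeSpectrum A, K ≤ n.asIdeal →
      n ∈ Set.range (PrimeSpectrum.comap (algebraMap A E))) :
    ∃ s : E → A, (∀ x y, s (x + y) = s x + s y) ∧ (∀ x y, s (x * y) = s x * s y) ∧
      (∀ (a : A) (x : E), s (a • x) = a * s x) ∧ 1 - s 1 ∈ K := by
  classical
  have hopen : IsOpen (Set.range (PrimeSpectrum.comap (algebraMap A E))) :=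
    (PrimeSpectrum.isOpenMap_comap_of_hasGoingDown_of_finitePresentation (R := A) (S := E)).isOpen_range
  set U := Set.range (PrimeSpectrum.comap (algebraMap A E)) with hU
  have hclosed : IsClosed Uᶜ := hopen.isClosed_compl
  set J := PrimeSpectrum.vanishingIdeal Uᶜ with hJ
  have hzl : PrimeSpectrum.zeroLocus (J : Set A) = Uᶜ := by
    rw [hJ, PrimeSpectrum.zeroLocus_vanishingIdeal_eq_closure, hclosed.closure_eq]
  have hsup : J ⊔ K = ⊤ := by
    rw [← PrimeSpectrum.zeroLocus_empty_iff_eq_top, PrimeSpectrum.zeroLocus_sup, hzl]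
    ext n
    simp only [Set.mem_inter_iff, Set.mem_compl_iff, PrimeSpectrum.mem_zeroLocus,
      SetLike.coe_subset_coe, Set.mem_empty_iff_false, iff_false, not_and]
    intro hn hKn
    exact hn (hK n hKn)
  obtain ⟨j, hj, h₀, hh₀, hjh⟩ := Submodule.mem_sup.mp (hsup ▸ Submodule.mem_top : (1 : A) ∈ J ⊔ K)
  let F := Localization.Away h₀
  haveI : Algebra.Etale A F := Algebra.Etale.of_isLocalizationAway h₀
  have hff : Module.FaithfullyFlat A (Pr E F) := by
    refine Module.FaithfullyFlat.of_comap_surjective fun n => ?_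
    by_cases hn : n ∈ U
    · obtain ⟨q', hq'⟩ := hn
      refine ⟨PrimeSpectrum.comap (Pi.evalRingHom (Two E F) true) q', ?_⟩
      rw [← hq']
      rfl
    · have hnz : n ∈ PrimeSpectrum.zeroLocus (J : Set A) := by rw [hzl]; exact hn
      have hjn : j ∈ n.asIdeal := (PrimeSpectrum.mem_zeroLocus _ _).mp hnz hj
      have hhn : h₀ ∉ n.asIdeal := by
        intro hh
        have : (1 : A) ∈ n.asIdeal := hjh ▸ Ideal.add_mem _ hjn hh
        exact n.isPrime.ne_top ((Ideal.eq_top_iff_one _).mpr this)
      have hdisj : Disjoint (Submonoid.powers h₀ : Set A) (n.asIdeal : Set A) := by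
        rw [Set.disjoint_left]
        rintro _ ⟨k, rfl⟩ hk
        exact hhn (n.isPrime.mem_of_pow_mem k hk)
      have hprime : (n.asIdeal.map (algebraMap A F)).IsPrime :=
        IsLocalization.isPrime_of_isPrime_disjoint (Submonoid.powers h₀) F _ n.isPrime hdisj
      have hcomap : (n.asIdeal.map (algebraMap A F)).comap (algebraMap A F) = n.asIdeal :=
        IsLocalization.under_map_of_isPrime_disjoint (Submonoid.powers h₀) F n.isPrime hdisj
      refine ⟨PrimeSpectrum.comap (Pi.evalRingHom (Two E F) false) ⟨_, hprime⟩, ?_⟩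
      apply PrimeSpectrum.ext
      exact hcomap
  obtain ⟨ρ⟩ := h (Pr E F) hff inferInstance
  refine ⟨fun x => ρ (inl E F x), fun x y => by
      show ρ (inl E F (x + y)) = ρ (inl E F x) + ρ (inl E F y)
      rw [inl_add, map_add],
    fun x y => by
      show ρ (inl E F (x * y)) = ρ (inl E F x) * ρ (inl E F y)
      rw [inl_mul, map_mul],
    fun a x => by
      show ρ (inl E F (a • x)) = a * ρ (inl E F x)
      rw [inl_algebraMap, map_smul, smul_eq_mul],
    ?_⟩
  show 1 - ρ (inl E F 1) ∈ K
  have e1 : 1 - ρ (inl E F 1) = ρ (inr E F 1) := by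
    rw [← map_one ρ, ← map_sub]
    congr 1
    rw [sub_eq_iff_eq_add, add_comm]
    exact inl_one_add_inr_one.symm
  have e2 : inr E F (1 : F) = h₀ • (inr E F (1 : F) * inr E F (IsLocalization.Away.invSelf h₀)) := by
    rw [← inr_mul, one_mul, ← inr_smul]
    congr 1
    rw [Algebra.smul_def]
    exact (IsLocalization.Away.mul_invSelf h₀).symm
  rw [e1, e2, map_smul, smul_eq_mul]
  exact Ideal.mul_mem_right _ _ hh₀

end Cover

section Quot

variable {A : Type u} [CommRing A]

open TensorProduct

theorem hasEtaleRetractions_quotient (h : ProEtW.HasEtaleRetractions A) (I : Ideal A) :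
    ProEtW.HasEtaleRetractions (A ⧸ I) := by
  intro Bb _ _ hff het
  obtain ⟨B, _, _, hB, ⟨e⟩⟩ := EtaleLift.exists_etale_lift A I Bb
  -- the ring map `B → Bb`
  let ψ : B →+* Bb := e.toAlgHom.toRingHom.comp
    (Algebra.TensorProduct.includeRight (R := A) (A := A ⧸ I) (B := B)).toRingHom
  have hψ : ∀ a : A, ψ (algebraMap A B a) = algebraMap (A ⧸ I) Bb (Ideal.Quotient.mk I a) := by
    intro a
    show e ((1 : A ⧸ I) ⊗ₜ[A] (algebraMap A B a)) = _
    rw [Algebra.algebraMap_eq_smul_one, ← TensorProduct.smul_tmul, ← Algebra.algebraMap_eq_smul_one]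
    have : (algebraMap A (A ⧸ I) a) ⊗ₜ[A] (1 : B)
        = algebraMap (A ⧸ I) ((A ⧸ I) ⊗[A] B) (Ideal.Quotient.mk I a) := rfl
    rw [this, e.commutes]
  have hK : ∀ n : PrimeSpectrum A, I ≤ n.asIdeal →
      n ∈ Set.range (PrimeSpectrum.comap (algebraMap A B)) := by
    intro n hn
    have hprime : (n.asIdeal.map (Ideal.Quotient.mk I)).IsPrime :=
      Ideal.map_isPrime_of_surjective Ideal.Quotient.mk_surjective (by rwa [Ideal.mk_ker])
    obtain ⟨Q, hQ⟩ := PrimeSpectrum.comap_surjective_of_faithfullyFlat (A := A ⧸ I) (B := Bb)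
      ⟨_, hprime⟩
    refine ⟨PrimeSpectrum.comap ψ Q, ?_⟩
    apply PrimeSpectrum.ext
    ext a
    show ψ (algebraMap A B a) ∈ Q.asIdeal ↔ a ∈ n.asIdeal
    rw [hψ]
    have h1 : algebraMap (A ⧸ I) Bb (Ideal.Quotient.mk I a) ∈ Q.asIdeal ↔
        Ideal.Quotient.mk I a ∈ n.asIdeal.map (Ideal.Quotient.mk I) := by
      have := congrArg PrimeSpectrum.asIdeal hQ
      change (PrimeSpectrum.comap (algebraMap (A ⧸ I) Bb) Q).asIdeal
        = n.asIdeal.map (Ideal.Quotient.mk I) at this
      rw [← this]
      rfl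
    rw [h1, Ideal.mem_map_iff_of_surjective _ Ideal.Quotient.mk_surjective]
    constructor
    · rintro ⟨a', ha', hEq⟩
      have : a - a' ∈ I := by
        rw [← Ideal.Quotient.eq, hEq]
      have h2 := Ideal.add_mem _ (hn this) ha'
      rwa [sub_add_cancel] at h2
    · intro ha
      exact ⟨a, ha, rfl⟩
  obtain ⟨s, hadd, hmul, hsmul, hone⟩ := exists_partial_retraction h I B hK
  have hone' : Ideal.Quotient.mk I (s 1) = 1 := by
    rw [← map_one (Ideal.Quotient.mk I)]
    symm
    exact Ideal.Quotient.eq.mpr hone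
  have hzero : s 0 = 0 := by
    have := hadd 0 0
    rw [add_zero] at this
    exact left_eq_add.mp this
  let g : B →ₐ[A] A ⧸ I :=
    { toFun := fun b => Ideal.Quotient.mk I (s b)
      map_one' := hone'
      map_mul' := fun x y => by rw [hmul, map_mul]
      map_zero' := by rw [hzero, map_zero]
      map_add' := fun x y => by rw [hadd, map_add]
      commutes' := fun a => by
        show Ideal.Quotient.mk I (s (algebraMap A B a)) = _
        rw [Algebra.algebraMap_eq_smul_one, hsmul, map_mul, hone', mul_one]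
        rfl }
  let G : (A ⧸ I) ⊗[A] B →ₐ[A ⧸ I] A ⧸ I :=
    Algebra.TensorProduct.lift (AlgHom.id _ _) g (fun _ _ => Commute.all _ _)
  exact ⟨G.comp e.symm.toAlgHom⟩

end Quot

end Groth.Agent.Helper7.EtRetr
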