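import Mathlib
import Groth.Agent.Lib.Helper7.EtRetr.Descent


/-! helper7: spreading out an etale algebra over a localization to an etale algebra over the base -/

set_option autoImplicit false
set_option linter.style.haveILetI false
set_option linter.unusedVariables false
set_option linter.unusedSectionVars false

open TensorProduct

universe u

namespace Groth.Agent.Helper7.EtRetr

/-- Spreading out an étale algebra over a localization to an étale algebra over the base. -/
theorem exists_etale_spread (A B : Type u) [CommRing A] [CommRing B] [Algebra A B]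
    (M : Submonoid A) [IsLocalization M B] (C' : Type u) [CommRing C'] [Algebra B C']
    [Algebra A C'] [IsScalarTower A B C'] [Algebra.Etale B C'] :
    ∃ (C₀ : Type u) (_ : CommRing C₀) (_ : Algebra A C₀), Algebra.Etale A C₀ ∧
      Nonempty (C₀ →ₐ[A] C') ∧ ∀ θ : C₀ →ₐ[A] B, Nonempty (C' →ₐ[B] B) := by
  classical
  have h0 : Algebra.IsStandardSmoothOfRelativeDimension 0 B C' :=
    Algebra.Etale.iff_isStandardSmoothOfRelativeDimension_zero.mp inferInstance
  obtain ⟨ι, σ, hσ, hι, P, hP⟩ := h0.out
  -- a common denominator for the coefficients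
  obtain ⟨⟨s, hsM⟩, hs⟩ := IsLocalization.exist_integer_multiples_of_finset M
    P.finite_coeffs.toFinset
  have hsu : IsUnit (algebraMap A B s) := IsLocalization.map_units B (⟨s, hsM⟩ : M)
  let As := Localization.Away s
  letI : Algebra As B := (IsLocalization.Away.lift s hsu).toAlgebra
  haveI : IsScalarTower A As B := IsScalarTower.of_algebraMap_eq' (by
    exact (IsLocalization.Away.lift_comp s hsu).symm)
  letI : Algebra As C' := ((algebraMap B C').comp (algebraMap As B)).toAlgebra
  haveI : IsScalarTower As B C' := IsScalarTower.of_algebraMap_eq' rfl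
  haveI : IsScalarTower A As C' := IsScalarTower.of_algebraMap_eq' (by
    rw [IsScalarTower.algebraMap_eq A B C', IsScalarTower.algebraMap_eq A As B]
    rfl)
  haveI : P.HasCoeffs As := by
    constructor
    intro c hc
    obtain ⟨a, ha⟩ := hs c (P.finite_coeffs.mem_toFinset.mpr hc)
    refine ⟨IsLocalization.mk' As a (⟨s, 1, by simp⟩ : Submonoid.powers s), ?_⟩
    have h1 : algebraMap As B (IsLocalization.mk' As a (⟨s, 1, by simp⟩ : Submonoid.powers s))
        * algebraMap A B s = algebraMap A B a := by
      rw [IsScalarTower.algebraMap_apply A As B s, IsScalarTower.algebraMap_apply A As B a,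
        ← map_mul]
      congr 1
      exact IsLocalization.mk'_spec As a (⟨s, 1, by simp⟩ : Submonoid.powers s)
    have h2 : c * algebraMap A B s = algebraMap A B a := by
      rw [ha, Algebra.smul_def, mul_comm]
    exact hsu.mul_left_inj.mp (h1.trans h2.symm)
  obtain ⟨C₀, _, _, hEt, ⟨e⟩⟩ := exists_etale_descent As B C' P hP
  letI : Algebra A C₀ := ((algebraMap As C₀).comp (algebraMap A As)).toAlgebra
  haveI : IsScalarTower A As C₀ := IsScalarTower.of_algebraMap_eq' rfl
  haveI : Algebra.Etale A As := Algebra.Etale.of_isLocalizationAway s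
  haveI : Algebra.Etale A C₀ := Algebra.Etale.comp A As C₀
  refine ⟨C₀, inferInstance, inferInstance, inferInstance, ?_, ?_⟩
  · let j₀ : C₀ →ₐ[As] C' :=
      (e.toAlgHom.restrictScalars As).comp Algebra.TensorProduct.includeRight
    exact ⟨j₀.restrictScalars A⟩
  · intro θ
    have hθ : θ.toRingHom.comp (algebraMap As C₀) = algebraMap As B := by
      apply IsLocalization.ringHom_ext (Submonoid.powers s)
      rw [RingHom.comp_assoc, ← IsScalarTower.algebraMap_eq A As C₀,
        ← IsScalarTower.algebraMap_eq A As B]
      exact θ.comp_algebraMap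
    let θ' : C₀ →ₐ[As] B :=
      { θ.toRingHom with commutes' := fun r => congrArg (fun g : As →+* B => g r) hθ }
    let G : B ⊗[As] C₀ →ₐ[B] B :=
      Algebra.TensorProduct.lift (AlgHom.id B B) θ' (fun _ _ => Commute.all _ _)
    exact ⟨G.comp e.symm.toAlgHom⟩

end Groth.Agent.Helper7.EtRetr
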