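import Mathlib
import Groth.Prelude.Def_ProEtW
import Groth.Agent.Lib.Helper7.EtRetr.Cover
import Groth.Agent.Lib.Helper7.EtRetr.LocDesc
import Groth.Agent.Lib.Helper7.Hensel.Basic


/-! helper7: etale retractions pass to localizations whose spectrum is the set of generalizations of a closed set (S0708) -/

set_option autoImplicit false
set_option linter.style.haveILetI false
set_option linter.unusedVariables false
set_option linter.unusedSectionVars false

open TensorProduct

universe u

namespace Groth.Agent.Helper7.EtRetr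

theorem map_le_jacobson_of_range (A B : Type u) [CommRing A] [CommRing B]
    [Algebra A B] (S : Submonoid A) [IsLocalization S B] (I : Ideal A)
    (hB : Set.range (PrimeSpectrum.comap (algebraMap A B)) =
      {x | ∃ z : PrimeSpectrum A, z ∈ PrimeSpectrum.zeroLocus (R := A) I ∧ x ⤳ z}) :
    I.map (algebraMap A B) ≤ Ideal.jacobson ⊥ := by
  rw [Ideal.jacobson, le_sInf_iff]
  rintro 𝔐 ⟨-, hmax⟩
  haveI := hmax.isPrime
  have hp : (PrimeSpectrum.comap (algebraMap A B) ⟨𝔐, inferInstance⟩) ∈
      Set.range (PrimeSpectrum.comap (algebraMap A B)) := ⟨_, rfl⟩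
  rw [hB] at hp
  obtain ⟨z, hzI, hpz⟩ := hp
  have hz : z ∈ Set.range (PrimeSpectrum.comap (algebraMap A B)) := by
    rw [hB]
    exact ⟨z, hzI, specializes_rfl⟩
  obtain ⟨𝔷, rfl⟩ := hz
  have hle : 𝔐.comap (algebraMap A B) ≤ 𝔷.asIdeal.comap (algebraMap A B) :=
    (PrimeSpectrum.le_iff_specializes _ _).mpr hpz
  have h1 : 𝔐 ≤ 𝔷.asIdeal := by
    rw [← IsLocalization.map_under S B 𝔐, ← IsLocalization.map_under S B 𝔷.asIdeal]
    exact Ideal.map_mono hle
  have h2 : 𝔐 = 𝔷.asIdeal := hmax.eq_of_le 𝔷.isPrime.ne_top h1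
  rw [h2, Ideal.map_le_iff_le_comap]
  exact (PrimeSpectrum.mem_zeroLocus _ _).mp hzI

theorem hasEtaleRetractions_localization (A B : Type u) [CommRing A] [CommRing B]
    [Algebra A B] (S : Submonoid A) [IsLocalization S B] (I : Ideal A)
    (hB : Set.range (PrimeSpectrum.comap (algebraMap A B)) =
      {x | ∃ z : PrimeSpectrum A, z ∈ PrimeSpectrum.zeroLocus (R := A) I ∧ x ⤳ z})
    (hA : ProEtW.HasEtaleRetractions A) : ProEtW.HasEtaleRetractions B := by
  intro C' _ _ hff het
  letI : Algebra A C' := ((algebraMap B C').comp (algebraMap A B)).toAlgebra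
  haveI : IsScalarTower A B C' := IsScalarTower.of_algebraMap_eq' rfl
  obtain ⟨C₀, _, _, hEt, ⟨j⟩, hθ⟩ := exists_etale_spread A B S C'
  have hK : ∀ n : PrimeSpectrum A, I ≤ n.asIdeal →
      n ∈ Set.range (PrimeSpectrum.comap (algebraMap A C₀)) := by
    intro n hn
    have hn' : n ∈ Set.range (PrimeSpectrum.comap (algebraMap A B)) := by
      rw [hB]
      exact ⟨n, (PrimeSpectrum.mem_zeroLocus _ _).mpr hn, specializes_rfl⟩
    obtain ⟨𝔫, rfl⟩ := hn'
    obtain ⟨Q, hQ⟩ := PrimeSpectrum.comap_surjective_of_faithfullyFlat (A := B) (B := C') 𝔫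
    refine ⟨PrimeSpectrum.comap j.toRingHom Q, ?_⟩
    rw [← hQ]
    apply PrimeSpectrum.ext
    show ((Q.asIdeal.comap j.toRingHom).comap (algebraMap A C₀))
      = (Q.asIdeal.comap (algebraMap B C')).comap (algebraMap A B)
    rw [Ideal.comap_comap, Ideal.comap_comap]
    have h1 : j.toRingHom.comp (algebraMap A C₀) = algebraMap A C' := j.comp_algebraMap
    rw [h1, IsScalarTower.algebraMap_eq A B C']
  obtain ⟨s, hadd, hmul, hsmul, hone⟩ := exists_partial_retraction hA I C₀ hK
  have hzero : s 0 = 0 := by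
    have := hadd 0 0
    rw [add_zero] at this
    exact left_eq_add.mp this
  have hone' : algebraMap A B (s 1) = 1 := by
    have hid : IsIdempotentElem (algebraMap A B (1 - s 1)) := by
      have h1 : s 1 * s 1 = s 1 := by rw [← hmul, one_mul]
      have h2 : (1 - s 1) * (1 - s 1) = 1 - s 1 := by linear_combination h1
      show algebraMap A B (1 - s 1) * algebraMap A B (1 - s 1) = algebraMap A B (1 - s 1)
      rw [← map_mul, h2]
    have hmem : algebraMap A B (1 - s 1) ∈ Ideal.jacobson (⊥ : Ideal B) :=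
      map_le_jacobson_of_range A B S I hB (Ideal.mem_map_of_mem _ hone)
    have h0 := Hensel.eq_zero_of_isIdempotentElem_of_mem_jacobson hid hmem
    rw [map_sub, map_one, sub_eq_zero] at h0
    exact h0.symm
  let θ : C₀ →ₐ[A] B :=
    { toFun := fun c => algebraMap A B (s c)
      map_one' := hone'
      map_mul' := fun x y => by rw [hmul, map_mul]
      map_zero' := by rw [hzero, map_zero]
      map_add' := fun x y => by rw [hadd, map_add]
      commutes' := fun a => by
        show algebraMap A B (s (algebraMap A C₀ a)) = _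
        have ha : algebraMap A C₀ a = a • (1 : C₀) := Algebra.algebraMap_eq_smul_one a
        rw [ha, hsmul, map_mul, hone', mul_one] }
  exact hθ θ

end Groth.Agent.Helper7.EtRetr
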